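import Groth.Agent.LT31.Endo
import Mathlib.RingTheory.FormalGroup.Basic
import Mathlib.RingTheory.Localization.FractionRing

/-!
# Solutions over the fraction field of `φ (f X₁, ..., f Xₙ) = π φ`, and endomorphisms
-/

set_option autoImplicit false

namespace Groth.Agent.LT32

open Groth.Agent.LT31 Finset

universe u

variable {O : Type u} [CommRing O] [IsDomain O] [IsDiscreteValuationRing O]
  [Finite (IsLocalRing.ResidueField O)]
variable {σ : Type*} [Fintype σ]

theorem ltVars_unit (π : O) : ltVars Unit π = fun _ => ltf π := by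
  funext i
  exact PowerSeries.X_subst _

theorem isEndo_of_series {π : O} {g : PowerSeries O} (hg : g.constantCoeff = 0)
    (h : PowerSeries.subst g (ltf π) = PowerSeries.subst (ltf π) g) :
    IsEndo π (σ := Unit) g := by
  refine ⟨hg, ?_⟩
  rw [ltVars_unit]
  exact h

theorem isEndo_formalGroup {π : O} (F : FormalGroup O)
    (h : PowerSeries.subst F.toPowerSeries (ltf π) =
      MvPowerSeries.subst (fun i : Fin 2 => PowerSeries.subst (MvPowerSeries.X i : MvPowerSeries (Fin 2) O)
        (ltf π)) F.toPowerSeries) :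
    IsEndo π F.toPowerSeries :=
  ⟨F.zero_constantCoeff, h⟩

theorem isEndo_ext {π : O} (hπ : Irreducible π) {φ ψ : MvPowerSeries σ O} (hφ : IsEndo π φ)
    (hψ : IsEndo π ψ) (h : ∀ i, φ.coeff (Finsupp.single i 1) = ψ.coeff (Finsupp.single i 1)) :
    φ = ψ :=
  endo_unique hπ hφ.1 hψ.1 h hφ.2 hψ.2

theorem coeff_series_one (g : PowerSeries O) (i : Unit) :
    MvPowerSeries.coeff (Finsupp.single i 1) g = PowerSeries.coeff 1 g := rfl

theorem subst_formalGroup {π : O} (hπ : Irreducible π) (F : FormalGroup O)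
    (hF : IsEndo π F.toPowerSeries) {g : PowerSeries O} (hg : IsEndo π (σ := Unit) g) :
    PowerSeries.subst F.toPowerSeries g =
      MvPowerSeries.subst (fun i : Fin 2 =>
        PowerSeries.subst (MvPowerSeries.X i : MvPowerSeries (Fin 2) O) g) F.toPowerSeries := by
  refine isEndo_ext hπ (hg.comp fun _ => hF) (hF.comp fun i => hg.comp fun _ => isEndo_X π i) ?_
  intro j
  have hb : ∀ i : Fin 2, (PowerSeries.subst
      (MvPowerSeries.X i : MvPowerSeries (Fin 2) O) g).constantCoeff = 0 :=
    fun i => (hg.comp fun _ => isEndo_X π i).1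
  rw [coeff_single_subst F.zero_constantCoeff hb j]
  rw [show PowerSeries.subst F.toPowerSeries g =
    MvPowerSeries.subst (fun _ : Unit => F.toPowerSeries) g from rfl,
    coeff_single_subst hg.1 (fun _ => F.zero_constantCoeff) j]
  have h : ∀ i : Fin 2, MvPowerSeries.coeff (Finsupp.single j 1)
      (PowerSeries.subst (MvPowerSeries.X i : MvPowerSeries (Fin 2) O) g) =
      if j = i then PowerSeries.coeff 1 g else 0 := fun i => by
    classical
    rw [show PowerSeries.subst (MvPowerSeries.X i : MvPowerSeries (Fin 2) O) g =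
      MvPowerSeries.subst (fun _ : Unit => (MvPowerSeries.X i : MvPowerSeries (Fin 2) O)) g from rfl,
      coeff_single_subst hg.1 (fun _ => by simp) j]
    simp only [Finset.univ_unique, Finset.sum_singleton, MvPowerSeries.coeff_X, coeff_series_one,
      Finsupp.single_left_inj one_ne_zero]
    split_ifs <;> simp
  simp only [h, Finset.univ_unique, Finset.sum_singleton, coeff_series_one]
  simp [Finset.sum_ite_eq, mul_comm]

/-- The base change of `ltVars` to an algebra. -/
noncomputable def ltVarsK (σ : Type*) (π : O) (K : Type u) [CommRing K] [Algebra O K] :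
    σ → MvPowerSeries σ K :=
  fun i => MvPowerSeries.map (algebraMap O K) (ltVars σ π i)

variable {K : Type u} [Field K] [Algebra O K]

theorem hasSubst_ltVarsK (π : O) : MvPowerSeries.HasSubst (ltVarsK σ π K) :=
  (hasSubst_ltVars π).map _

theorem coeff_subst_ltVarsK [DecidableEq σ] (π : O) (φ : MvPowerSeries σ K) (m : σ →₀ ℕ) :
    MvPowerSeries.coeff m (MvPowerSeries.subst (ltVarsK σ π K) φ) =
      algebraMap O K π ^ (∑ i, m i) * MvPowerSeries.coeff m φ +
        ∑ d ∈ Finset.Iio m, MvPowerSeries.coeff d φ *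
          algebraMap O K (∏ i, PowerSeries.coeff (m i) (ltf π ^ d i)) := by
  classical
  have h : ∀ d : σ →₀ ℕ, MvPowerSeries.coeff m (d.prod fun i e => ltVarsK σ π K i ^ e) =
      algebraMap O K (∏ i, PowerSeries.coeff (m i) (ltf π ^ d i)) := fun d => by
    rw [← coeff_prod_ltVars, ← MvPowerSeries.coeff_map]
    congr 1
    rw [Finsupp.prod, Finsupp.prod, map_prod]
    simp only [map_pow, ltVarsK]
  rw [MvPowerSeries.coeff_subst (hasSubst_ltVarsK π), finsum_eq_sum_of_support_subset _
    (s := Finset.Iic m)]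
  · simp only [h, smul_eq_mul]
    rw [← Finset.Iio_insert, Finset.sum_insert (by simp),
      Finset.prod_congr rfl (fun i _ => coeff_ltf_pow_self π (m i)), Finset.prod_pow_eq_pow_sum,
      map_pow, mul_comm]
  · intro d hd
    simp only [Function.mem_support, h] at hd
    rw [Finset.coe_Iic, Set.mem_Iic]
    intro i
    by_contra hlt
    push Not at hlt
    exact hd (by rw [Finset.prod_eq_zero (Finset.mem_univ i) (coeff_ltf_pow_of_lt π hlt), map_zero,
      smul_zero])

theorem coeff_single_psubst {R τ : Type*} [CommRing R] {φ : PowerSeries R}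
    (h0 : φ.constantCoeff = 0) {b : MvPowerSeries τ R} (hb : b.constantCoeff = 0) (j : τ) :
    MvPowerSeries.coeff (Finsupp.single j 1) (PowerSeries.subst b φ) =
      PowerSeries.coeff 1 φ * b.coeff (Finsupp.single j 1) := by
  rw [PowerSeries.coeff_subst (PowerSeries.HasSubst.of_constantCoeff_zero hb),
    finsum_eq_single _ 1, pow_one, smul_eq_mul]
  intro d hd
  rcases Nat.lt_or_ge d 1 with h | h
  · obtain rfl : d = 0 := by omega
    rw [PowerSeries.coeff_zero_eq_constantCoeff_apply, h0, zero_smul]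
  · rw [MvPowerSeries.coeff_of_lt_order (lt_of_lt_of_le ?_
      (MvPowerSeries.le_order_pow_of_constantCoeff_eq_zero d hb)), smul_zero]
    rw [Finsupp.degree_single]
    exact_mod_cast (by omega : 1 < d)

theorem sub_pow_ne_zero [IsFractionRing O K] {π : O} (hπ : Irreducible π) {n : ℕ} (hn : n ≠ 1) :
    algebraMap O K π - algebraMap O K π ^ n ≠ 0 := by
  rw [← map_pow, ← map_sub, map_ne_zero_iff _ (IsFractionRing.injective O K), sub_ne_zero]
  intro h
  exact hn (pow_injective_of_not_isUnit hπ.not_isUnit hπ.ne_zero (show π ^ 1 = π ^ n by simpa using h)).symm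

theorem log_unique [IsFractionRing O K] {π : O} (hπ : Irreducible π) {φ ψ : MvPowerSeries σ K}
    (hφ : MvPowerSeries.subst (ltVarsK σ π K) φ = algebraMap O K π • φ)
    (hψ : MvPowerSeries.subst (ltVarsK σ π K) ψ = algebraMap O K π • ψ)
    (h1 : ∀ i, φ.coeff (Finsupp.single i 1) = ψ.coeff (Finsupp.single i 1)) : φ = ψ := by
  classical
  ext m
  induction m using WellFoundedLT.induction with
  | _ m ih =>
  by_cases hm : ∑ i, m i = 1
  · rcases eq_zero_or_single_of_sum_lt (by omega : ∑ i, m i < 2) with rfl | ⟨i, rfl⟩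
    · simp at hm
    · exact h1 i
  · have e1 := congrArg (MvPowerSeries.coeff m) hφ
    have e2 := congrArg (MvPowerSeries.coeff m) hψ
    rw [coeff_subst_ltVarsK, MvPowerSeries.coeff_smul] at e1 e2
    have hs : (∑ d ∈ Finset.Iio m, MvPowerSeries.coeff d φ *
          algebraMap O K (∏ i, PowerSeries.coeff (m i) (ltf π ^ d i))) =
        ∑ d ∈ Finset.Iio m, MvPowerSeries.coeff d ψ *
          algebraMap O K (∏ i, PowerSeries.coeff (m i) (ltf π ^ d i)) :=
      Finset.sum_congr rfl fun d hd => by rw [ih d (Finset.mem_Iio.mp hd)]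
    rw [hs] at e1
    refine mul_left_cancel₀ (sub_pow_ne_zero (K := K) hπ hm) ?_
    linear_combination e2 - e1

theorem exists_log [IsFractionRing O K] {π : O} (hπ : Irreducible π) :
    ∃ ℓ : MvPowerSeries Unit K, ℓ.constantCoeff = 0 ∧ ℓ.coeff (Finsupp.single () 1) = 1 ∧
      MvPowerSeries.subst (ltVarsK Unit π K) ℓ = algebraMap O K π • ℓ := by
  classical
  let step : (m : Unit →₀ ℕ) → (∀ d, d < m → K) → K := fun m F =>
    if ∑ i, m i = 1 then 1 else (algebraMap O K π - algebraMap O K π ^ ∑ i, m i)⁻¹ *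
      ∑ d : Finset.Iio m, F d.1 (Finset.mem_Iio.mp d.2) *
        algebraMap O K (∏ i, PowerSeries.coeff (m i) (ltf π ^ d.1 i))
  let wf : WellFounded ((· < ·) : (Unit →₀ ℕ) → (Unit →₀ ℕ) → Prop) := wellFounded_lt
  let L : MvPowerSeries Unit K := wf.fix step
  have hfix : ∀ m, MvPowerSeries.coeff m L = step m fun d _ => MvPowerSeries.coeff d L :=
    fun m => wf.fix_eq step m
  have hz : Finset.Iio (0 : Unit →₀ ℕ) = ∅ := by
    ext d; simp
  have h0 : MvPowerSeries.coeff 0 L = 0 := by
    rw [hfix]
    simp only [step, Finsupp.coe_zero, Pi.zero_apply, Finset.sum_const_zero, zero_ne_one, if_false]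
    rw [Finset.sum_eq_zero fun d _ => absurd (hz.le d.2) (Finset.notMem_empty d.1), mul_zero]
  have h1 : MvPowerSeries.coeff (Finsupp.single () 1) L = 1 := by
    rw [hfix]
    simp [step]
  refine ⟨L, by rwa [← MvPowerSeries.coeff_zero_eq_constantCoeff_apply], h1,
    MvPowerSeries.ext fun m => ?_⟩
  rw [coeff_subst_ltVarsK, MvPowerSeries.coeff_smul]
  by_cases hm : ∑ i, m i = 1
  · obtain rfl : m = Finsupp.single () 1 := by
      refine Finsupp.ext fun i => ?_
      simpa using hm
    rw [Finset.sum_eq_zero (s := Finset.Iio (Finsupp.single () 1 : Unit →₀ ℕ)) fun d hd => ?_,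
      add_zero, hm, pow_one]
    obtain ⟨hle, hne⟩ := lt_iff_le_and_ne.mp (Finset.mem_Iio.mp hd)
    have h2 := hle ()
    rw [Finsupp.single_eq_same] at h2
    have h3 : d () ≠ 1 := fun h => hne (Finsupp.ext fun i => by
      rw [Finsupp.single_eq_same]; exact h)
    obtain rfl : d = 0 := Finsupp.ext fun i => by
      show d () = 0
      omega
    rw [h0, zero_mul]
  · have := hfix m
    simp only [step, if_neg hm] at this
    rw [Finset.sum_coe_sort (Finset.Iio m) fun d => MvPowerSeries.coeff d L *
      algebraMap O K (∏ i, PowerSeries.coeff (m i) (ltf π ^ d i))] at this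
    set S := ∑ d ∈ Finset.Iio m, MvPowerSeries.coeff d L *
      algebraMap O K (∏ i, PowerSeries.coeff (m i) (ltf π ^ d i))
    rw [this]
    have hne := sub_pow_ne_zero (K := K) hπ hm
    linear_combination -S * (inv_mul_cancel₀ hne)

/-- Composing a solution with an endomorphism gives a solution. -/
theorem subst_ltVarsK_comp {π : O} {ℓ : MvPowerSeries Unit K}
    (hℓ : MvPowerSeries.subst (ltVarsK Unit π K) ℓ = algebraMap O K π • ℓ) {φ : MvPowerSeries σ O}
    (hφ : IsEndo π φ) :
    MvPowerSeries.subst (ltVarsK σ π K)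
        (MvPowerSeries.subst (fun _ : Unit => MvPowerSeries.map (algebraMap O K) φ) ℓ) =
      algebraMap O K π •
        MvPowerSeries.subst (fun _ : Unit => MvPowerSeries.map (algebraMap O K) φ) ℓ := by
  have hb : MvPowerSeries.HasSubst (fun _ : Unit => MvPowerSeries.map (algebraMap O K) φ) :=
    MvPowerSeries.hasSubst_of_constantCoeff_zero fun _ => by
      rw [MvPowerSeries.constantCoeff_map, hφ.1, map_zero]
  rw [MvPowerSeries.subst_comp_subst_apply hb (hasSubst_ltVarsK π)]
  have hφs : MvPowerSeries.HasSubst (fun _ : Unit => φ) :=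
    MvPowerSeries.hasSubst_of_constantCoeff_zero fun _ => hφ.1
  have e1 : MvPowerSeries.subst (ltVarsK σ π K) (MvPowerSeries.map (algebraMap O K) φ) =
      MvPowerSeries.map (algebraMap O K) (MvPowerSeries.subst (fun _ : Unit => φ) (ltf π)) := by
    rw [show MvPowerSeries.subst (fun _ : Unit => φ) (ltf π) =
        MvPowerSeries.subst (ltVars σ π) φ from hφ.2,
      MvPowerSeries.map_subst (hasSubst_ltVars π)]
    rfl
  rw [← MvPowerSeries.subst_smul hb, ← hℓ,
    MvPowerSeries.subst_comp_subst_apply (hasSubst_ltVarsK π) hb]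
  congr 1
  funext _
  rw [e1, MvPowerSeries.map_subst hφs]
  congr 1
  rw [ltVarsK, ltVars_unit]

end Groth.Agent.LT32
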